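import Mathlib
import Groth.Prelude.Def_Flatn
import Groth.Agent.Lib.Helper14.WeilAff3

/-!
# `Mor_S(Z, X)` in the all-affine case, with finite type AND finite presentation of the representing
object (helper19; helper14's `WeilAff4.main2` with one more clause)
-/

set_option autoImplicit false
set_option linter.style.haveILetI false
set_option linter.unusedSectionVars false
set_option linter.unusedVariables false
set_option maxRecDepth 8000

universe u

open CategoryTheory CategoryTheory.Limits AlgebraicGeometry TopologicalSpace Opposite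

namespace Groth.Agent.Helper19.HomMT

open Groth.Agent.Helper14.WeilAff

section Main

variable {Z X S : Scheme.{u}} [IsAffine Z] [IsAffine X] [IsAffine S] (g : Z ⟶ S) (f : X ⟶ S)

theorem main3 (hfree : letI := (g.appTop).hom.toAlgebra
      Module.Finite Γ(S, ⊤) Γ(Z, ⊤) ∧ Module.Free Γ(S, ⊤) Γ(Z, ⊤)) :
    ∃ W : Over S, IsAffine W.left ∧
      ((letI := (g.appTop).hom.toAlgebra
        letI := (f.appTop).hom.toAlgebra
        ∀ {ι : Type u} [Fintype ι] (e : Module.Basis ι Γ(S, ⊤) Γ(Z, ⊤)),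
          Algebra.FinitePresentation Γ(S, ⊤) (WR Γ(X, ⊤) e)) →
        LocallyOfFinitePresentation W.hom) ∧
      ((letI := (g.appTop).hom.toAlgebra
        letI := (f.appTop).hom.toAlgebra
        ∀ {ι : Type u} [Fintype ι] (e : Module.Basis ι Γ(S, ⊤) Γ(Z, ⊤)),
          Algebra.FiniteType Γ(S, ⊤) (WR Γ(X, ⊤) e)) →
        LocallyOfFiniteType W.hom) ∧
      Nonempty ((Flatn.morS g f).RepresentableBy W) := by
  letI algB : Algebra Γ(S, ⊤) Γ(Z, ⊤) := (g.appTop).hom.toAlgebra
  letI algC : Algebra Γ(S, ⊤) Γ(X, ⊤) := (f.appTop).hom.toAlgebra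
  obtain ⟨hfin, hfr⟩ := hfree
  haveI := hfin
  haveI := hfr
  let e : Module.Basis (Module.Free.ChooseBasisIndex Γ(S, ⊤) Γ(Z, ⊤)) Γ(S, ⊤) Γ(Z, ⊤) :=
    Module.Free.chooseBasis _ _
  haveI : Fintype (Module.Free.ChooseBasisIndex Γ(S, ⊤) Γ(Z, ⊤)) := inferInstance
  -- the representing ring
  let Rc : CommRingCat.{u} := CommRingCat.of (WR (Γ(X, ⊤)) e)
  obtain ⟨w, hw⟩ := exists_hom_appTop (Y := Spec Rc) (Y₀ := S)
    (CommRingCat.ofHom (algebraMap Γ(S, ⊤) (WR (Γ(X, ⊤)) e)) ≫ (Scheme.ΓSpecIso Rc).inv)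
  -- free extension data for every `t : T ⟶ S`
  have hcoord : ∀ {T : Scheme.{u}} (t : T ⟶ S) (x : Γ(pullback t g, ⊤)),
      ∃! d : Module.Free.ChooseBasisIndex Γ(S, ⊤) Γ(Z, ⊤) → Γ(T, ⊤),
        x = ∑ k, (pullback.fst t g).appTop.hom (d k) * (pullback.snd t g).appTop.hom (e k) :=
    fun t x => theta_top_existsUnique t g e x
  have hσ : ∀ {T : Scheme.{u}} (t : T ⟶ S),
      ((pullback.fst t g).appTop.hom).comp t.appTop.hom =
        ((pullback.snd t g).appTop.hom).comp (algebraMap Γ(S, ⊤) Γ(Z, ⊤)) :=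
    fun t => cond_appTop g t
  -- the universal element
  let ρu : WR (Γ(X, ⊤)) e →+* Γ(Spec Rc, ⊤) := (Scheme.ΓSpecIso Rc).inv.hom
  have hρu : ρu.comp (algebraMap Γ(S, ⊤) (WR (Γ(X, ⊤)) e)) = w.appTop.hom := by
    rw [hw]
    rfl
  obtain ⟨βu, hβu1, hβu2⟩ := exists_beta e (pullback.fst w g).appTop.hom
    (pullback.snd w g).appTop.hom w.appTop.hom (hσ w) ρu hρu
  obtain ⟨u₀, hu₀⟩ := exists_hom_appTop (Y := pullback w g) (Y₀ := X) (CommRingCat.ofHom βu)
  have hu₀f : u₀ ≫ f = pullback.snd w g ≫ g := by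
    apply ext_of_isAffine
    rw [Scheme.Hom.comp_appTop, Scheme.Hom.comp_appTop, hu₀]
    apply CommRingCat.hom_ext
    rw [CommRingCat.hom_comp, CommRingCat.hom_comp]
    exact hβu2
  let W : Over S := Over.mk w
  haveI hWaff : IsAffine W.left := by
    show IsAffine (Spec Rc)
    infer_instance
  let u : (Flatn.morS g f).obj (op W) := Over.homMk u₀ hu₀f
  -- the key computation
  have hP1 : ∀ {T : Over S} (τ : T ⟶ W),
      ((Over.pullback g).map τ).left ≫ pullback.fst w g = pullback.fst T.hom g ≫ τ.left := by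
    intro T τ
    show pullback.lift _ _ _ ≫ _ = _
    exact pullback.lift_fst _ _ _
  have hP2 : ∀ {T : Over S} (τ : T ⟶ W),
      ((Over.pullback g).map τ).left ≫ pullback.snd w g = pullback.snd T.hom g := by
    intro T τ
    show pullback.lift _ _ _ ≫ _ = _
    exact pullback.lift_snd _ _ _
  have hleft : ∀ {T : Over S} (τ : T ⟶ W),
      ((Flatn.morS g f).map τ.op u).left = ((Over.pullback g).map τ).left ≫ u₀ := by
    intro T τ
    rfl
  have hKC : ∀ {T : Over S} (τ : T ⟶ W) (c : Γ(X, ⊤)),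
      (((Over.pullback g).map τ).left ≫ u₀).appTop.hom c =
        ∑ k, (pullback.fst T.hom g).appTop.hom ((τ.left.appTop.hom.comp ρu) (xb e c k)) *
          (pullback.snd T.hom g).appTop.hom (e k) := by
    intro T τ c
    rw [Scheme.Hom.comp_appTop, hu₀]
    show (((Over.pullback g).map τ).left).appTop.hom (βu c) = _
    rw [hβu1, map_sum]
    refine Finset.sum_congr rfl fun k _ => ?_
    rw [map_mul]
    congr 1
    · have h1 := congrArg Scheme.Hom.appTop (hP1 τ)
      rw [Scheme.Hom.comp_appTop, Scheme.Hom.comp_appTop] at h1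
      exact congrArg (fun φ => φ.hom (ρu (xb e c k))) h1
    · have h2 := congrArg Scheme.Hom.appTop (hP2 τ)
      rw [Scheme.Hom.comp_appTop] at h2
      exact congrArg (fun φ => φ.hom (e k)) h2
  have hρτ : ∀ {T : Over S} (τ : T ⟶ W),
      (τ.left.appTop.hom.comp ρu).comp (algebraMap Γ(S, ⊤) (WR (Γ(X, ⊤)) e)) =
        T.hom.appTop.hom := by
    intro T τ
    rw [RingHom.comp_assoc, hρu]
    have h1 := congrArg Scheme.Hom.appTop (Over.w τ)
    rw [Scheme.Hom.comp_appTop] at h1
    have h2 := congrArg CommRingCat.Hom.hom h1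
    rw [CommRingCat.hom_comp] at h2
    exact h2
  -- bijectivity
  have hbij : ∀ T : Over S, Function.Bijective
      (fun τ : T ⟶ W => (Flatn.morS g f).map τ.op u) := by
    intro T
    constructor
    · intro τ₁ τ₂ h12
      have h12' : ((Over.pullback g).map τ₁).left ≫ u₀ = ((Over.pullback g).map τ₂).left ≫ u₀ := by
        rw [← hleft τ₁, ← hleft τ₂]
        exact congrArg (fun b => CommaMorphism.left b) h12
      obtain ⟨ρ₀, -, hρ₀u⟩ := existsUnique_rho (C := Γ(X, ⊤)) e (pullback.fst T.hom g).appTop.hom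
        (pullback.snd T.hom g).appTop.hom T.hom.appTop.hom (hσ T.hom) (hcoord T.hom)
        ((((Over.pullback g).map τ₁).left ≫ u₀).appTop.hom) (by
          have h1 : (((Over.pullback g).map τ₁).left ≫ u₀) ≫ f =
              pullback.snd T.hom g ≫ g := by
            rw [Category.assoc, hu₀f, ← Category.assoc, hP2 τ₁]
          have h2 := congrArg Scheme.Hom.appTop h1
          rw [Scheme.Hom.comp_appTop, Scheme.Hom.comp_appTop] at h2
          have h3 := congrArg CommRingCat.Hom.hom h2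
          rw [CommRingCat.hom_comp, CommRingCat.hom_comp] at h3
          exact h3)
      have e1 := hρ₀u (τ₁.left.appTop.hom.comp ρu) ⟨hρτ τ₁, fun c => hKC τ₁ c⟩
      have e2 := hρ₀u (τ₂.left.appTop.hom.comp ρu) ⟨hρτ τ₂, fun c => by
        rw [h12']; exact hKC τ₂ c⟩
      have e3 : τ₁.left.appTop.hom.comp ρu = τ₂.left.appTop.hom.comp ρu := e1.trans e2.symm
      have e4 : τ₁.left.appTop = τ₂.left.appTop := by
        apply CommRingCat.hom_ext
        refine RingHom.ext fun y => ?_
        have h5 := congrArg (fun φ : WR (Γ(X, ⊤)) e →+* Γ(T.left, ⊤) =>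
          φ ((Scheme.ΓSpecIso Rc).hom.hom y)) e3
        have h6 : ρu ((Scheme.ΓSpecIso Rc).hom.hom y) = y := by
          show ((Scheme.ΓSpecIso Rc).hom ≫ (Scheme.ΓSpecIso Rc).inv).hom y = y
          rw [Iso.hom_inv_id]
          rfl
        simpa [h6] using h5
      exact Over.OverMorphism.ext (ext_of_isAffine e4)
    · intro b
      have hb : b.left ≫ f = pullback.snd T.hom g ≫ g := Over.w b
      obtain ⟨ρ, ⟨hρ1, hρ2⟩, -⟩ := existsUnique_rho (C := Γ(X, ⊤)) e (pullback.fst T.hom g).appTop.hom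
        (pullback.snd T.hom g).appTop.hom T.hom.appTop.hom (hσ T.hom) (hcoord T.hom)
        (b.left.appTop.hom) (by
          have h2 := congrArg Scheme.Hom.appTop hb
          rw [Scheme.Hom.comp_appTop, Scheme.Hom.comp_appTop] at h2
          have h3 := congrArg CommRingCat.Hom.hom h2
          rw [CommRingCat.hom_comp, CommRingCat.hom_comp] at h3
          exact h3)
      obtain ⟨τ₀, hτ₀⟩ := exists_hom_appTop (Y := T.left) (Y₀ := Spec Rc)
        ((Scheme.ΓSpecIso Rc).hom ≫ CommRingCat.ofHom ρ)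
      have hτ₀ρ : τ₀.appTop.hom.comp ρu = ρ := by
        rw [hτ₀]
        refine RingHom.ext fun y => ?_
        show ρ (((Scheme.ΓSpecIso Rc).inv ≫ (Scheme.ΓSpecIso Rc).hom).hom y) = ρ y
        rw [Iso.inv_hom_id]
        rfl
      have hτ₀w : τ₀ ≫ w = T.hom := by
        apply ext_of_isAffine
        rw [Scheme.Hom.comp_appTop]
        apply CommRingCat.hom_ext
        rw [CommRingCat.hom_comp, ← hρu, ← RingHom.comp_assoc, hτ₀ρ, hρ1]
      let τ : T ⟶ W := Over.homMk τ₀ hτ₀w
      refine ⟨τ, ?_⟩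
      apply Over.OverMorphism.ext
      rw [hleft τ]
      apply ext_of_isAffine
      apply CommRingCat.hom_ext
      refine RingHom.ext fun c => ?_
      rw [hKC τ c, hρ2 c]
      have : τ.left.appTop.hom.comp ρu = ρ := hτ₀ρ
      rw [this]
  have hfp : (∀ {ι : Type u} [Fintype ι] (e : Module.Basis ι Γ(S, ⊤) Γ(Z, ⊤)),
      Algebra.FinitePresentation Γ(S, ⊤) (WR Γ(X, ⊤) e)) → LocallyOfFinitePresentation W.hom := by
    intro H
    haveI := H e
    change LocallyOfFinitePresentation w
    rw [HasRingHomProperty.iff_of_isAffine (P := @LocallyOfFinitePresentation), hw]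
    rw [CommRingCat.hom_comp]
    refine RingHom.FinitePresentation.comp ?_ ?_
    · exact RingHom.FinitePresentation.of_bijective
        (ConcreteCategory.bijective_of_isIso (Scheme.ΓSpecIso Rc).inv)
    · exact RingHom.finitePresentation_algebraMap.mpr
        (inferInstance : Algebra.FinitePresentation Γ(S, ⊤) (WR Γ(X, ⊤) e))
  have hft : (∀ {ι : Type u} [Fintype ι] (e : Module.Basis ι Γ(S, ⊤) Γ(Z, ⊤)),
      Algebra.FiniteType Γ(S, ⊤) (WR Γ(X, ⊤) e)) → LocallyOfFiniteType W.hom := by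
    intro H
    haveI := H e
    change LocallyOfFiniteType w
    rw [HasRingHomProperty.iff_of_isAffine (P := @LocallyOfFiniteType), hw]
    rw [CommRingCat.hom_comp]
    refine RingHom.FiniteType.comp ?_ ?_
    · exact RingHom.FiniteType.of_surjective _
        (ConcreteCategory.bijective_of_isIso (Scheme.ΓSpecIso Rc).inv).2
    · exact RingHom.finiteType_algebraMap.mpr
        (inferInstance : Algebra.FiniteType Γ(S, ⊤) (WR Γ(X, ⊤) e))
  refine ⟨W, hWaff, hfp, hft, ⟨{
    homEquiv := fun {T} => Equiv.ofBijective _ (hbij T)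
    homEquiv_comp := ?_ }⟩⟩
  intro T T' h τ
  show (Flatn.morS g f).map (h ≫ τ).op u = (Flatn.morS g f).map h.op ((Flatn.morS g f).map τ.op u)
  rw [op_comp, Functor.map_comp]
  rfl

end Main

end Groth.Agent.Helper19.HomMT
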