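import Mathlib
import Groth.Prelude.Def_Flatn
import Groth.Prelude.Def_Mor2
import Groth.Agent.Lib.Helper14.MorGlue7
import Groth.Agent.Lib.Helper19.HomMT.WeilFT
import Groth.Agent.Lib.Helper19.MorSRestrict
import Groth.Agent.Lib.Helper1.MorSheafW
import Groth.Agent.Lib.Helper9.FreeNbhd
import Groth.Agent.Lib.Helper13.WeilFP

/-!
# `Mor_S(Z, X)` for `Z/S` finite locally free and `X/S` affine: representing object affine over `S`,
of finite type / finite presentation when `X/S` is (helper19; helper14's `MorGlue9.main7194fp` with
both clauses)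
-/

set_option autoImplicit false
set_option linter.style.haveILetI false
set_option linter.unusedSectionVars false
set_option linter.unusedVariables false

universe u
open CategoryTheory CategoryTheory.Limits AlgebraicGeometry Opposite

namespace Groth.Agent.Helper19.HomMT

open Groth.Agent.Helper14.MorGlue

/-- the finite-type input (FT), as a hypothesis. -/
def FTHyp : Prop :=
  ∀ {A B C : Type u} [CommRing A] [CommRing B] [CommRing C] [Algebra A B] [Algebra A C]
    {ι : Type u} [Fintype ι] (e : Module.Basis ι A B) [Algebra.FiniteType A C],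
    Algebra.FiniteType A (Groth.Agent.Helper14.WeilAff.WR C e)

theorem rep_all (hFT : FTHyp.{u}) {Z X S : Scheme.{u}} (g : Z ⟶ S) (f : X ⟶ S)
    (hg : Mor2.IsFinLocFree g) [IsAffineHom f] :
    ∃ W : Over S, IsAffineHom W.hom ∧
      (LocallyOfFiniteType f → LocallyOfFiniteType W.hom) ∧
      (LocallyOfFinitePresentation f → LocallyOfFinitePresentation W.hom) ∧
      Nonempty ((Flatn.morS g f).RepresentableBy W) := by
  have hS := Groth.Agent.Helper1.MorSheafW.isZarSheafW_morS.{u + 1} g f
  haveI : IsFinite g := hg.1
  choose U hUaff hsU hfree using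
    (fun s => Groth.Agent.Helper9.FreeNbhd.exists_free_nbhd g hg s)
  have hchart : ∀ s : S, ∃ c : Chart (Flatn.morS g f) (U s),
      IsAffineHom c.p ∧ (LocallyOfFiniteType f → LocallyOfFiniteType c.p) ∧
        (LocallyOfFinitePresentation f → LocallyOfFinitePresentation c.p) := by
    intro s
    haveI : IsAffine (U s).toScheme := hUaff s
    haveI : IsAffine (pullback (U s).ι g) := isAffine_of_isAffineHom (pullback.fst (U s).ι g)
    haveI : IsAffine (pullback (U s).ι f) := isAffine_of_isAffineHom (pullback.fst (U s).ι f)
    obtain ⟨W', hW', hfpW, hftW, ⟨R'⟩⟩ := main3 (pullback.fst (U s).ι g)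
      (pullback.fst (U s).ι f) (hfree s)
    obtain ⟨R⟩ := Groth.Agent.Helper19.MorSRestrict.morS_restrict_representableBy g f (U s) W' ⟨R'⟩
    refine ⟨Chart.ofRepresentableBy R, ?_, ?_, ?_⟩
    · change IsAffineHom W'.hom
      haveI := hW'
      infer_instance
    · intro hf
      change LocallyOfFiniteType W'.hom
      apply hftW
      intro ι _ e
      letI := ((pullback.fst (U s).ι g).appTop).hom.toAlgebra
      letI := ((pullback.fst (U s).ι f).appTop).hom.toAlgebra
      haveI : Algebra.FiniteType Γ((U s).toScheme, ⊤) Γ(pullback (U s).ι f, ⊤) := by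
        have h : LocallyOfFiniteType (pullback.fst (U s).ι f) := inferInstance
        rw [HasRingHomProperty.iff_of_isAffine (P := @LocallyOfFiniteType)] at h
        exact h
      exact hFT e
    · intro hf
      change LocallyOfFinitePresentation W'.hom
      apply hfpW
      intro ι _ e
      letI := ((pullback.fst (U s).ι g).appTop).hom.toAlgebra
      letI := ((pullback.fst (U s).ι f).appTop).hom.toAlgebra
      haveI : Algebra.FinitePresentation Γ((U s).toScheme, ⊤) Γ(pullback (U s).ι f, ⊤) := by
        have h : LocallyOfFinitePresentation (pullback.fst (U s).ι f) := inferInstance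
        rw [HasRingHomProperty.iff_of_isAffine (P := @LocallyOfFinitePresentation)] at h
        exact h
      exact Groth.Agent.Helper13.WeilFP.finitePresentation_WR e
  choose c hc using hchart
  obtain ⟨W, ⟨R⟩⟩ := exists_representableBy hS U (fun s => ⟨s, hsU s⟩) c
  have R₀ : (Flatn.morS g f).RepresentableBy (Over.mk W.hom) := R
  exact ⟨W, prop_of_charts @IsAffineHom U (fun s => ⟨s, hsU s⟩) c (fun s => (hc s).1) R₀,
    fun hf => prop_of_charts @LocallyOfFiniteType U (fun s => ⟨s, hsU s⟩) c
      (fun s => (hc s).2.1 hf) R₀,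
    fun hf => prop_of_charts @LocallyOfFinitePresentation U (fun s => ⟨s, hsU s⟩) c
      (fun s => (hc s).2.2 hf) R₀,
    ⟨R⟩⟩

end Groth.Agent.Helper19.HomMT
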