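import Mathlib
import Groth.Prelude.Def_AutFam
import Groth.Agent.Lib.Helper19.HomMT.Rep
import Groth.Agent.Lib.Helper1.MorMon
import Groth.Agent.Lib.Helper1.HomGrp1
import Groth.Agent.Lib.Helper1.HomGrp2

/-!
# The scheme of group homomorphisms from a finite locally free group into an affine group
(helper19; assembly of helper14's `Mor_S(Z,X)` and helper1's equalizer lemma, tracking finite type
and finite presentation)
-/

set_option autoImplicit false
set_option linter.style.haveILetI false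
set_option linter.unusedSectionVars false
set_option linter.unusedVariables false

universe u
open CategoryTheory CategoryTheory.Limits AlgebraicGeometry Opposite MonoidalCategory
  CartesianMonoidalCategory MonObj

namespace Groth.Agent.Helper19.HomMT

open Groth.Agent.Helper1.MorMon

variable {S : Scheme.{u}}

/-- helper1's `monoidal_of_morS`, keeping the representing object. -/
theorem monoidal_of_rep (X Y W : Over S) (R : (Flatn.morS X.hom Y.hom).RepresentableBy W) :
    ∃ ev : X ⊗ W ⟶ Y, ∀ (T : Over S) (φ : X ⊗ T ⟶ Y), ∃! v : T ⟶ W, (X ◁ v) ≫ ev = φ := by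
  let ev₀ : P X W ⟶ Y := toHom X Y W (R.homEquiv (𝟙 W))
  have key : ∀ (T : Over S) (v : T ⟶ W), toHom X Y T (R.homEquiv v) = PM X v ≫ ev₀ := by
    intro T v
    have h1 : R.homEquiv (v ≫ 𝟙 W) =
        (Flatn.morS X.hom Y.hom).map v.op (R.homEquiv (𝟙 W)) := R.homEquiv_comp v (𝟙 W)
    rw [Category.comp_id] at h1
    exact (congrArg (toHom X Y T) h1).trans (toHom_map X Y v _)
  have comp : ∀ (T : Over S) (v : T ⟶ W),
      (X ◁ v) ≫ (σ X W ≫ ev₀) = σ X T ≫ toHom X Y T (R.homEquiv v) := by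
    intro T v
    rw [key T v, ← Category.assoc, whisker_σ, Category.assoc]
  refine ⟨σ X W ≫ ev₀, fun T φ =>
    ⟨R.homEquiv.symm (ofHom X Y T (σinv X T ≫ φ)), ?_, ?_⟩⟩
  · show (X ◁ _) ≫ (σ X W ≫ ev₀) = φ
    rw [comp, Equiv.apply_symm_apply, toHom_ofHom, ← Category.assoc, σ_σinv, Category.id_comp]
  · intro v hv
    have hv' : σ X T ≫ toHom X Y T (R.homEquiv v) = φ := (comp T v).symm.trans hv
    rw [Equiv.eq_symm_apply]
    have e : toHom X Y T (R.homEquiv v) = σinv X T ≫ φ := by
      rw [← hv', ← Category.assoc, σinv_σ, Category.id_comp]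
    exact (ofHom_toHom X Y T _).symm.trans (congrArg (ofHom X Y T) e)

/-- The `Hom`-scheme of a finite locally free `X` into an affine `Y`, in monoidal form. -/
theorem homScheme (hFT : FTHyp.{u}) (X Y : Over S) (hX : Mor2.IsFinLocFree X.hom)
    [IsAffineHom Y.hom] :
    ∃ (M : Over S) (ev : X ⊗ M ⟶ Y), IsAffineHom M.hom ∧
      (LocallyOfFiniteType Y.hom → LocallyOfFiniteType M.hom) ∧
      (LocallyOfFinitePresentation Y.hom → LocallyOfFinitePresentation M.hom) ∧
      ∀ (T : Over S) (φ : X ⊗ T ⟶ Y), ∃! v : T ⟶ M, (X ◁ v) ≫ ev = φ := by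
  obtain ⟨W, hWa, hWft, hWfp, ⟨R⟩⟩ := rep_all hFT X.hom Y.hom hX
  obtain ⟨ev, hev⟩ := monoidal_of_rep X Y W R
  exact ⟨W, ev, hWa, hWft, hWfp, hev⟩

theorem isFinLocFree_tensor (G : Over S) (hG : Mor2.IsFinLocFree G.hom) :
    Mor2.IsFinLocFree (G ⊗ G).hom := by
  obtain ⟨h1, h2, h3⟩ := hG
  refine ⟨?_, ?_, ?_⟩
  · show IsFinite (pullback.fst G.hom G.hom ≫ G.hom)
    infer_instance
  · show Flat (pullback.fst G.hom G.hom ≫ G.hom)
    infer_instance
  · show LocallyOfFinitePresentation (pullback.fst G.hom G.hom ≫ G.hom)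
    infer_instance

/-- The scheme of group homomorphisms from a finite locally free group `H` to an affine group `G`. -/
theorem homGrpScheme (hFT : FTHyp.{u}) (H G : Over S) [GrpObj H] [GrpObj G]
    (hH : Mor2.IsFinLocFree H.hom) [IsAffineHom G.hom] :
    ∃ (A : Over S) (υ : H ⊗ A ⟶ G), AutFam.RepresentsHom H G A υ ∧ IsAffineHom A.hom ∧
      (LocallyOfFiniteType G.hom → LocallyOfFiniteType A.hom) ∧
      (LocallyOfFinitePresentation G.hom → LocallyOfFinitePresentation A.hom) := by
  obtain ⟨M0, ev0, hM0a, hM0ft, hM0fp, h0⟩ := homScheme hFT H G hH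
  obtain ⟨N, evN, hNa, hNft, hNfp, hN⟩ := homScheme hFT (H ⊗ H) G (isFinLocFree_tensor H hH)
  obtain ⟨α, β, hαβ⟩ := Groth.Agent.Helper1.HomGrp.main H G M0 ev0 h0 N evN hN
  have : IsSeparated N.hom := IsSeparated.of_isAffineHom _
  have hcl : IsClosedImmersion (equalizer.ι α β).left := inferInstance
  have hw : (equalizer α β).hom = (equalizer.ι α β).left ≫ M0.hom :=
    (Over.w (equalizer.ι α β)).symm
  obtain ⟨hhom, huniv⟩ := hαβ (equalizer α β) (equalizer.ι α β) (equalizer.condition α β)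
    (fun T v0 hv0 => ⟨equalizer.lift v0 hv0, equalizer.lift_ι _ _, fun v' hv' => by
      apply equalizer.hom_ext
      rw [hv', equalizer.lift_ι]⟩)
  refine ⟨equalizer α β, (H ◁ equalizer.ι α β) ≫ ev0,
    ⟨fun X a b m => hhom X a b m, fun T φ hφ => huniv T φ (fun X a b t => hφ X a b t)⟩, ?_, ?_, ?_⟩
  · rw [hw]
    infer_instance
  · intro hG
    haveI := hM0ft hG
    rw [hw]
    infer_instance
  · intro hG
    haveI := hM0fp hG
    haveI : LocallyOfFiniteType N.hom := hNft inferInstance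
    haveI : LocallyOfFinitePresentation (equalizer.ι α β).left :=
      Groth.Agent.Helper1.HomGrp.lfp_equalizer_ι_left α β
    rw [hw]
    infer_instance

end Groth.Agent.Helper19.HomMT
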