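import Mathlib
import Groth.Prelude.Def_SGA3x
import Groth.Agent.Lib.Helper16.Sch.CoverTriv
import Groth.Agent.Lib.Helper16.AlgSp.FlatDesc
import Groth.Agent.Lib.Helper10.DSFlat

/-!
# Groups of multiplicative type (finite type) are flat and locally of finite presentation
(helper19; fpqc descent from the diagonalisable case)
-/

set_option autoImplicit false
set_option linter.style.haveILetI false
set_option linter.unusedSectionVars false
set_option linter.unusedVariables false

universe u
open CategoryTheory CategoryTheory.Limits AlgebraicGeometry Opposite MonoidalCategory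
  CartesianMonoidalCategory MorphismProperty

namespace Groth.Agent.Helper19.HomMT

/-- pasting: `P (pullback.snd (pullback.snd a b) c) ↔ P (pullback.snd a (c ≫ b))`. -/
theorem snd_snd_iff (P : MorphismProperty Scheme.{u}) [P.RespectsIso] {X Y Z W : Scheme.{u}}
    (a : X ⟶ Z) (b : Y ⟶ Z) (c : W ⟶ Y) :
    P (pullback.snd (pullback.snd a b) c) ↔ P (pullback.snd a (c ≫ b)) := by
  rw [← pullbackLeftPullbackSndIso_hom_snd a b c, P.cancel_left_of_respectsIso]

/-- A property of morphisms which is Zariski-local on the target, stable under base change, descends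
along fpqc covers and holds for diagonalisable groups of finite type holds for groups of multiplicative
type. -/
theorem prop_of_isMultTypeFT (P : MorphismProperty Scheme.{u}) [IsZariskiLocalAtTarget P]
    [P.IsStableUnderBaseChange]
    [P.DescendsAlong (@Surjective ⊓ @Flat ⊓ @QuasiCompact : MorphismProperty Scheme.{u})]
    (hDS : ∀ (U : Scheme.{u}) (M : Type) [AddCommGroup M], AddGroup.FG M → P (Red.DS U M).hom)
    {S : Scheme.{u}} (H : Over S) [GrpObj H] (hH : SGA3x.IsMultTypeFT H) : P H.hom := by
  obtain ⟨S', f, hfl, hsurj, hqc, hloc⟩ := hH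
  haveI := hfl
  choose U hsU M instM hMfg he using hloc
  -- Step A: `H_{S'} → S'` has `P`
  have hA : P (pullback.snd H.hom f) := by
    have hcov : TopologicalSpace.IsOpenCover U := by
      apply TopologicalSpace.IsOpenCover.mk
      rw [eq_top_iff]
      intro p _
      exact TopologicalSpace.Opens.mem_iSup.mpr ⟨p, hsU p⟩
    rw [IsZariskiLocalAtTarget.iff_of_openCover (P := P) (S'.openCoverOfIsOpenCover U hcov)]
    intro (s' : S')
    change P (pullback.snd (pullback.snd H.hom f) (U s').ι)
    rw [snd_snd_iff P]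
    obtain ⟨e⟩ := he s'
    let e' : Red.bc ((U s').ι ≫ f) H ≅ Red.DS (U s' : Scheme.{u}) (M s') :=
      (Grp.forget (Over (U s' : Scheme.{u}))).mapIso e
    have hw : e'.hom.left ≫ (Red.DS (U s' : Scheme.{u}) (M s')).hom =
        (Red.bc ((U s').ι ≫ f) H).hom := Over.w e'.hom
    change P (Red.bc ((U s').ι ≫ f) H).hom
    rw [← hw]
    haveI : IsIso e'.hom.left := (CategoryTheory.Over.forget _).map_isIso e'.hom
    rw [P.cancel_left_of_respectsIso]
    exact hDS _ _ (hMfg s')
  -- Step C: local on the target over affine opens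
  have hcovS : TopologicalSpace.IsOpenCover (fun V : S.affineOpens => V.1) :=
    TopologicalSpace.IsOpenCover.mk (iSup_affineOpens_eq_top S)
  rw [IsZariskiLocalAtTarget.iff_of_openCover (P := P)
    (S.openCoverOfIsOpenCover (fun V : S.affineOpens => V.1) hcovS)]
  intro (V : S.affineOpens)
  change P (pullback.snd H.hom V.1.ι)
  obtain ⟨W, hWc, hW⟩ := hqc V.1 V.2
  obtain ⟨q, hq, hqfl, hqs, hqqc⟩ :=
    Groth.Agent.Helper16.CoverTriv.exists_lift f V.1 V.2 W hWc hW
  apply of_pullback_snd_of_descendsAlong (P := P)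
    (Q := (@Surjective ⊓ @Flat ⊓ @QuasiCompact : MorphismProperty Scheme.{u}))
    (f := pullback.snd H.hom V.1.ι) (g := q) ⟨⟨hqs, hqfl⟩, hqqc⟩
  rw [snd_snd_iff P, hq, ← snd_snd_iff P]
  exact P.pullback_snd _ _ hA

theorem flat_lfp_of_isMultTypeFT {S : Scheme.{u}} (H : Over S) [GrpObj H]
    (hH : SGA3x.IsMultTypeFT H) : Flat H.hom ∧ LocallyOfFinitePresentation H.hom := by
  haveI := Groth.Agent.Helper16.AS.flat_descendsAlong_fpqc.{u}
  exact ⟨prop_of_isMultTypeFT @Flat
      (fun U M _ hM => (Groth.Agent.Helper10.DSFlat.flat_lfp_DS U M hM).1) H hH,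
    prop_of_isMultTypeFT @LocallyOfFinitePresentation
      (fun U M _ hM => (Groth.Agent.Helper10.DSFlat.flat_lfp_DS U M hM).2) H hH⟩

end Groth.Agent.Helper19.HomMT
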